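import Cfsg.Agent.Lib.GTwoThree.Data

/-!
The group `G2(3)` acting on the ideal spanned by the short roots: an algebra with a cross product.
Prime divisors of the order and the orders which are products of two distinct primes.
-/

set_option autoImplicit false

namespace Cfsg.Agent.Lib.GTwoThree

open Matrix Cfsg.Lie
open Cfsg.Agent.Lib.LieTwisted.Isogeny

/-- The restriction to the ideal. -/
def φ : G3 →* M7 where
  toFun x := piI dataG2_good (mt (D := chevG2) (x : GL chevG2.Idx (ZMod 3)))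
  map_one' := by rw [Subgroup.coe_one, mt_one]; exact piI_one dataG2_good
  map_mul' x y := by rw [Subgroup.coe_mul, mt_mul]; exact piI_mul dataG2_good (tri_of_mem dataG2_good y.2)

theorem φ_injective : Function.Injective φ := by
  intro x y h
  have h1 : φ (x * y⁻¹) = 1 := by rw [map_mul, h, ← map_mul, mul_inv_cancel, map_one]
  have h2 : ((x * y⁻¹ : G3) : GL chevG2.Idx (ZMod 3)) = 1 := piI_injective dataG2_good (x * y⁻¹).2 h1
  exact mul_inv_eq_one.1 (Subtype.ext h2)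

theorem inv_mul {M N : M7} (hM : Inv M) (hN : Inv N) : Inv (M * N) := by
  refine ⟨?_, fun a => ?_⟩
  · rw [Matrix.transpose_mul]
    calc N.transpose * M.transpose * Bm * (M * N) = N.transpose * (M.transpose * Bm * M) * N := by noncomm_ring
      _ = Bm := by rw [hM.1, hN.1]
  · have h1 : M * (∑ w, N w a • AD w) = (∑ w, (M * N) w a • AD w) * M := by
      simp only [Matrix.mul_sum, Matrix.mul_smul, hM.2, Matrix.sum_mul, Matrix.smul_mul, Finset.smul_sum, smul_smul,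
        Matrix.mul_apply, Finset.sum_smul]
      rw [Finset.sum_comm]
      exact Finset.sum_congr rfl fun _ _ => Finset.sum_congr rfl fun _ _ => by rw [mul_comm]
    rw [mul_assoc, hN.2, ← mul_assoc, h1, mul_assoc]

theorem inv_φ (x : G3) : Inv (φ x) := by
  refine induction' dataG2_good (P := fun x => Inv (piI dataG2_good (mt (D := chevG2) x))) ?_ ?_ ?_ x.2
  · have h : piI dataG2_good (mt (D := chevG2) (1 : GL chevG2.Idx (ZMod 3))) = (1 : M7) := by
      rw [mt_one]; exact piI_one dataG2_good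
    rw [h]
    exact ⟨by rw [Matrix.transpose_one, one_mul, mul_one], fun a => by simp [Matrix.one_apply]⟩
  · intro r hr t y hy
    have h : piI dataG2_good (mt (D := chevG2) y) = genMat ⟨r, hr⟩ t := by
      have hy' : (y : Matrix chevG2.Idx chevG2.Idx (ZMod 3)) = chevG2.xMat (ZMod 3) ⟨r, hr⟩ t := by
        rw [hy, ChevalleyDatum.x, dif_pos hr]
      rw [genMat, ← hy']
      rfl
    rw [h]
    exact ⟨genMat_form _ _, genMat_prod _ _⟩
  · intro a b _ hb ha hb'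
    rw [mt_mul]
    erw [piI_mul dataG2_good (tri_of_mem dataG2_good hb)]
    exact inv_mul ha hb'

/-- The form. -/
noncomputable def Bf : LinearMap.BilinForm (ZMod 3) (Fin 7 → ZMod 3) := Matrix.toBilin' Bm

/-- The product. -/
def muf : (Fin 7 → ZMod 3) →ₗ[ZMod 3] (Fin 7 → ZMod 3) →ₗ[ZMod 3] (Fin 7 → ZMod 3) :=
  LinearMap.mk₂ _ (fun u v => (∑ a, u a • AD a) *ᵥ v)
    (fun u u' v => by simp [add_smul, Finset.sum_add_distrib, Matrix.add_mulVec])
    (fun c u v => by simp [← smul_smul, ← Finset.smul_sum, Matrix.smul_mulVec])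
    (fun u v v' => Matrix.mulVec_add _ _ _) (fun c u v => Matrix.mulVec_smul _ _ _)

theorem Bf_apply (u v : Fin 7 → ZMod 3) : Bf u v = u ⬝ᵥ (Bm *ᵥ v) := Matrix.toBilin'_apply' Bm u v

theorem cross_ident (v : Fin 7 → ZMod 3) :
    (∑ a, v a • AD a) * (∑ a, v a • AD a) = Bf v v • (1 : M7) - Matrix.vecMulVec v (v ᵥ* Bm) := by
  ext i j
  have hself : ∀ x y : ZMod 3, x + x = y + y → x = y := by decide
  apply hself
  have hL : ((∑ a, v a • AD a) * (∑ a, v a • AD a)) i j = ∑ a, ∑ b, v a * v b * (AD a * AD b) i j := by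
    simp only [Finset.sum_mul, Finset.mul_sum, smul_mul_smul_comm, Matrix.sum_apply, Matrix.smul_apply, smul_eq_mul]
    exact Finset.sum_comm
  have hsw : (∑ a, ∑ b, v a * v b * (AD a * AD b) i j) = ∑ a, ∑ b, v a * v b * (AD b * AD a) i j := by
    refine Finset.sum_comm.trans ?_
    exact Finset.sum_congr rfl fun _ _ => Finset.sum_congr rfl fun _ _ => by ring
  have hQ : Bf v v = ∑ a, ∑ b, v a * v b * Bm a b := by
    rw [Bf_apply]
    simp only [dotProduct, Matrix.mulVec, Finset.mul_sum]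
    exact Finset.sum_congr rfl fun _ _ => Finset.sum_congr rfl fun _ _ => by ring
  have hV : Matrix.vecMulVec v (v ᵥ* Bm) i j = ∑ b, v i * v b * Bm b j := by
    simp only [Matrix.vecMulVec_apply, Matrix.vecMul, dotProduct, Finset.mul_sum]
    exact Finset.sum_congr rfl fun _ _ => by ring
  have hd : ∑ a, ∑ b, v a * v b * (if i = a then Bm b j else 0) = ∑ b, v i * v b * Bm b j := by
    rw [Finset.sum_eq_single i (fun a _ ha => by simp [Ne.symm ha]) (by simp)]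
    simp
  have hd' : ∑ a, ∑ b, v a * v b * (if i = b then Bm a j else 0) = ∑ b, v i * v b * Bm b j := by
    rw [Finset.sum_comm, Finset.sum_eq_single i (fun a _ ha => by simp [Ne.symm ha]) (by simp)]
    simp [mul_comm (v i)]
  rw [hL]
  conv_lhs => arg 2; rw [hsw]
  have hterm : ∀ a b, v a * v b * (AD a * AD b) i j + v a * v b * (AD b * AD a) i j =
      (v a * v b * Bm a b * (if i = j then 1 else 0) + v a * v b * Bm a b * (if i = j then 1 else 0)) -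
        v a * v b * (if i = a then Bm b j else 0) - v a * v b * (if i = b then Bm a j else 0) := by
    intro a b
    rw [← mul_add, ← Matrix.add_apply, AD_ident, Matrix.of_apply, mul_sub, mul_sub, mul_add, mul_assoc _ (Bm a b)]
  simp only [← Finset.sum_add_distrib, hterm]
  simp only [Finset.sum_sub_distrib, Finset.sum_add_distrib, ← Finset.sum_mul]
  rw [← hQ, hd, hd', ← hV, Matrix.sub_apply, Matrix.smul_apply, Matrix.one_apply, smul_eq_mul]
  abel

theorem isCross : IsCross Bf muf := by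
  refine ⟨fun u v => ?_, fun u h => ?_, by simp, fun v u => ?_⟩
  · rw [Bf_apply, Bf_apply, Matrix.dotProduct_mulVec, ← Matrix.mulVec_transpose, dotProduct_comm,
      show Bm.transpose = Bm by decide]
  · have h1 : u ᵥ* Bm = 0 := by
      funext j
      have := h (Pi.single j 1)
      rw [Bf_apply, Matrix.dotProduct_mulVec, dotProduct_single, mul_one] at this
      exact this
    have h2 := congrArg (fun w => w ᵥ* Bm) h1
    simp only [Matrix.vecMul_vecMul, Matrix.zero_vecMul, show Bm * Bm = 1 by decide, Matrix.vecMul_one] at h2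
    exact h2
  · change (∑ a, v a • AD a) *ᵥ ((∑ a, v a • AD a) *ᵥ u) = _
    rw [Matrix.mulVec_mulVec, cross_ident, Matrix.sub_mulVec, Matrix.smul_mulVec, Matrix.one_mulVec,
      Matrix.vecMulVec_mulVec, Bf_apply v u, ← Matrix.dotProduct_mulVec]
    simp

/-- The representation. -/
noncomputable def ρ : G3 →* Module.End (ZMod 3) (Fin 7 → ZMod 3) :=
  (Matrix.toLinAlgEquiv' : M7 ≃ₐ[ZMod 3] _).toMonoidHom.comp φ

theorem ρ_apply (x : G3) (v : Fin 7 → ZMod 3) : ρ x v = φ x *ᵥ v := rfl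

theorem ρ_injective : Function.Injective ρ :=
  (Matrix.toLinAlgEquiv' : M7 ≃ₐ[ZMod 3] _).injective.comp φ_injective

theorem isAut (x : G3) : IsAut Bf muf (ρ x) := by
  obtain ⟨h1, h2⟩ := inv_φ x
  refine ⟨fun u v => ?_, fun u v => ?_⟩
  · rw [ρ_apply, ρ_apply, Bf_apply, Bf_apply, Matrix.mulVec_mulVec, ← Matrix.vecMul_transpose,
      ← Matrix.dotProduct_mulVec, Matrix.mulVec_mulVec, ← mul_assoc, h1]
  · change (∑ a, (φ x *ᵥ u) a • AD a) *ᵥ (φ x *ᵥ v) = φ x *ᵥ ((∑ a, u a • AD a) *ᵥ v)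
    rw [Matrix.mulVec_mulVec, Matrix.mulVec_mulVec]
    congr 1
    simp only [Matrix.mul_sum, Matrix.mul_smul, h2, Matrix.mulVec, dotProduct, Finset.sum_smul, Matrix.sum_mul,
      Matrix.smul_mul, Finset.smul_sum, smul_smul]
    rw [Finset.sum_comm]
    exact Finset.sum_congr rfl fun _ _ => Finset.sum_congr rfl fun _ _ => by rw [mul_comm]

theorem exists_gen (r : Fin chevG2.nroots) (t : ZMod 3) : ∃ g : G3, φ g = genMat r t := by
  let w : GL chevG2.Idx (ZMod 3) := Units.mk (chevG2.xMat (ZMod 3) r t) (chevG2.xMat (ZMod 3) r (-t))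
    (by revert r t; decide +kernel) (by revert r t; decide +kernel)
  exact ⟨⟨w, Subgroup.subset_closure ⟨r, t, rfl⟩⟩, rfl⟩

theorem order_six {X X2 X3 : M7} (h2 : X * X = X2) (h3 : X2 * X = X3) (h6 : X3 * X3 = 1)
    (n1 : X ≠ 1) (n2 : X2 ≠ 1) (n3 : X3 ≠ 1) (n4 : X2 * X2 ≠ 1) (n5 : X3 * X2 ≠ 1) : orderOf X = 6 := by
  have e2 : X ^ 2 = X2 := by rw [sq, h2]
  have e3 : X ^ 3 = X3 := by rw [pow_succ, e2, h3]
  rw [orderOf_eq_iff (by norm_num)]
  refine ⟨by rw [show 6 = 3 + 3 from rfl, pow_add, e3, h6], fun m hm hm0 => ?_⟩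
  interval_cases m
  · rwa [pow_one]
  · rwa [e2]
  · rwa [e3]
  · rwa [show 4 = 2 + 2 from rfl, pow_add, e2]
  · rwa [show 5 = 3 + 2 from rfl, pow_add, e2, e3]

theorem order_seven {X X2 X4 : M7} (h2 : X * X = X2) (h4 : X2 * X2 = X4) (h7 : X4 * X2 * X = 1)
    (n1 : X ≠ 1) : orderOf X = 7 := by
  haveI : Fact (Nat.Prime 7) := ⟨by norm_num⟩
  refine orderOf_eq_prime ?_ n1
  have e : X ^ (2 + 2 + 2 + 1) = 1 := by rw [pow_add, pow_add, pow_add, sq, h2, h4, pow_one, h7]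
  exact e

theorem order_thirteen {X X2 X4 X8 : M7} (h2 : X * X = X2) (h4 : X2 * X2 = X4) (h8 : X4 * X4 = X8)
    (h13 : X8 * X4 * X = 1) (n1 : X ≠ 1) : orderOf X = 13 := by
  haveI : Fact (Nat.Prime 13) := ⟨by norm_num⟩
  refine orderOf_eq_prime ?_ n1
  have e4 : X ^ 4 = X4 := by rw [show 4 = 2 + 2 from rfl, pow_add, sq, h2, h4]
  rw [show 13 = 4 + 4 + 4 + 1 from rfl, pow_add, pow_add, pow_add, e4, h8, pow_one, h13]

/-- Orders realised. -/
theorem exists_six : ∃ g : G3, orderOf g = 6 := by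
  obtain ⟨a, ha⟩ := exists_gen ⟨0, by decide⟩ 1
  obtain ⟨b, hb⟩ := exists_gen ⟨11, by decide⟩ 2
  refine ⟨a * b, ?_⟩
  have h : φ (a * b) = (!![1, 0, 0, 0, 0, 0, 0; 0, 1, 0, 0, 0, 0, 0; 0, 0, 1, 0, 0, 0, 0; 0, 0, 0, 1, 0, 0, 2; 0, 0, 0, 0, 0, 2, 0; 0, 0, 0, 0, 1, 1, 0; 0, 0, 0, 1, 0, 0, 0] : M7) := by rw [map_mul, ha, hb]; decide +kernel
  rw [← orderOf_injective φ φ_injective, h]
  exact order_six (X2 := !![1, 0, 0, 0, 0, 0, 0; 0, 1, 0, 0, 0, 0, 0; 0, 0, 1, 0, 0, 0, 0; 0, 0, 0, 0, 0, 0, 2; 0, 0, 0, 0, 2, 2, 0; 0, 0, 0, 0, 1, 0, 0; 0, 0, 0, 1, 0, 0, 2]) (X3 := !![1, 0, 0, 0, 0, 0, 0; 0, 1, 0, 0, 0, 0, 0; 0, 0, 1, 0, 0, 0, 0; 0, 0, 0, 2, 0, 0, 0; 0, 0, 0, 0, 2, 0, 0; 0, 0, 0, 0, 0, 2, 0; 0, 0, 0, 0, 0, 0, 2]) (by decide +kernel) (by decide +kernel) (by decide +kernel) (by decide +kernel) (by decide +kernel) (by decide +kernel) (by decide +kernel) (by decide +kernel)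

theorem exists_seven : ∃ g : G3, orderOf g = 7 := by
  obtain ⟨a, ha⟩ := exists_gen ⟨0, by decide⟩ 1
  obtain ⟨b, hb⟩ := exists_gen ⟨1, by decide⟩ 1
  obtain ⟨c, hc⟩ := exists_gen ⟨3, by decide⟩ 1
  obtain ⟨d, hd⟩ := exists_gen ⟨11, by decide⟩ 1
  refine ⟨a * b * c * d, ?_⟩
  have h : φ (a * b * c * d) = (!![1, 0, 0, 2, 0, 0, 2; 0, 1, 0, 0, 1, 2, 0; 0, 0, 1, 0, 1, 2, 0; 0, 0, 0, 1, 0, 0, 1; 2, 0, 0, 2, 2, 2, 2; 0, 0, 0, 0, 2, 1, 0; 0, 1, 1, 1, 1, 2, 2] : M7) := by rw [map_mul, map_mul, map_mul, ha, hb, hc, hd]; decide +kernel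
  rw [← orderOf_injective φ φ_injective, h]
  exact order_seven (X2 := !![1, 2, 2, 0, 2, 1, 2; 2, 1, 0, 2, 1, 0, 2; 2, 0, 1, 2, 1, 0, 2; 0, 1, 1, 2, 1, 2, 0; 0, 2, 2, 0, 1, 1, 2; 1, 0, 0, 1, 0, 2, 1; 2, 0, 0, 2, 1, 0, 1]) (X4 := !![2, 2, 2, 1, 1, 2, 2; 2, 0, 2, 1, 1, 1, 1; 2, 2, 0, 1, 1, 1, 1; 0, 2, 2, 1, 2, 0, 2; 1, 1, 1, 1, 1, 0, 1; 2, 0, 0, 0, 1, 1, 2; 1, 2, 2, 0, 2, 1, 1]) (by decide +kernel) (by decide +kernel) (by decide +kernel) (by decide +kernel)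

theorem exists_thirteen : ∃ g : G3, orderOf g = 13 := by
  obtain ⟨a, ha⟩ := exists_gen ⟨0, by decide⟩ 1
  obtain ⟨b, hb⟩ := exists_gen ⟨4, by decide⟩ 1
  obtain ⟨c, hc⟩ := exists_gen ⟨9, by decide⟩ 1
  refine ⟨a * b * c, ?_⟩
  have h : φ (a * b * c) = (!![1, 2, 0, 0, 2, 0, 2; 0, 1, 0, 0, 1, 0, 0; 2, 2, 1, 0, 2, 0, 1; 2, 0, 2, 1, 0, 1, 2; 1, 0, 0, 0, 1, 2, 1; 2, 0, 0, 0, 0, 1, 2; 2, 0, 2, 1, 2, 1, 0] : M7) := by rw [map_mul, map_mul, ha, hb, hc]; decide +kernel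
  rw [← orderOf_injective φ φ_injective, h]
  exact order_thirteen (X2 := !![1, 1, 1, 2, 1, 0, 1; 1, 1, 0, 0, 2, 2, 1; 2, 2, 0, 1, 0, 2, 1; 2, 2, 2, 0, 0, 1, 1; 2, 2, 2, 1, 2, 2, 1; 2, 1, 1, 2, 2, 0, 0; 0, 2, 1, 1, 1, 0, 0]) (X4 := !![1, 0, 2, 2, 0, 2, 0; 1, 1, 2, 0, 0, 0, 1; 1, 1, 1, 0, 2, 2, 2; 1, 2, 1, 0, 0, 2, 0; 0, 0, 2, 1, 0, 1, 0; 1, 1, 1, 1, 2, 1, 2; 2, 2, 1, 2, 0, 0, 2]) (X8 := !![1, 2, 2, 1, 2, 0, 2; 0, 2, 1, 1, 1, 0, 1; 0, 2, 1, 1, 0, 2, 2; 0, 2, 0, 1, 0, 0, 2; 1, 2, 1, 1, 0, 1, 0; 0, 0, 1, 0, 1, 0, 0; 2, 2, 1, 2, 2, 1, 2]) (by decide +kernel) (by decide +kernel) (by decide +kernel) (by decide +kernel) (by decide +kernel)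

theorem ρ_pow {x : G3} {r : ℕ} (hx : orderOf x = r) : ρ x ^ r = 1 := by
  rw [← map_pow, ← hx, pow_orderOf_eq_one, map_one]

theorem ρ_ne_one {x : G3} {r : ℕ} (hr : r.Prime) (hx : orderOf x = r) : ρ x ≠ 1 := by
  intro h
  rw [ρ_injective (h.trans (map_one ρ).symm), orderOf_one] at hx
  exact hr.one_lt.ne hx

/-- The prime element orders. -/
theorem prime_order_cases {x : G3} {r : ℕ} (hr : r.Prime) (hx : orderOf x = r) : r = 2 ∨ r = 3 ∨ r = 7 ∨ r = 13 := by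
  by_cases h5 : 5 ≤ r
  · rcases prime_cases isCross (isAut x) hr h5 (ρ_pow hx) (ρ_ne_one hr hx) with h | h <;> simp [h]
  · have := hr.two_le
    interval_cases r
    · simp
    · simp
    · norm_num at hr

theorem no_commuting_pair {x y : G3} {r s : ℕ} (hr : r = 7 ∨ r = 13) (hs : s = 2 ∨ s = 3 ∨ (r = 13 ∧ s = 7))
    (hx : orderOf x = r) (hy : orderOf y = s) (h : Commute y x) : False := by
  have hrp : r.Prime := by rcases hr with rfl | rfl <;> norm_num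
  have hsp : s.Prime := by rcases hs with rfl | rfl | ⟨-, rfl⟩ <;> norm_num
  have h5 : 5 ≤ r := by omega
  have hc : Commute (ρ y) (ρ x) := h.map ρ
  rcases hs with rfl | rfl | ⟨rfl, rfl⟩
  · exact ρ_ne_one hsp hy (no_commuting_two isCross (isAut x) hrp h5 (ρ_pow hx) (ρ_ne_one hrp hx) (isAut y) hc (ρ_pow hy))
  · exact ρ_ne_one hsp hy (no_commuting_three isCross (isAut x) hrp h5 (ρ_pow hx) (ρ_ne_one hrp hx) (isAut y) hc (ρ_pow hy))
  · exact no_commuting_seven isCross (isAut x) (isAut y) (ρ_pow hx) (ρ_ne_one hrp hx) (ρ_pow hy) (ρ_ne_one hsp hy) hc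

/-- The element orders which are products of two distinct primes. -/
theorem product_order {g : G3} {r s : ℕ} (hr : r.Prime) (hs : s.Prime) (hrs : r ≠ s) (hg : orderOf g = r * s) :
    r * s = 6 := by
  have ha : orderOf (g ^ s) = r := by
    rw [orderOf_pow_of_dvd hs.pos.ne' (hg ▸ dvd_mul_left s r), hg, Nat.mul_div_cancel _ hs.pos]
  have hb : orderOf (g ^ r) = s := by
    rw [orderOf_pow_of_dvd hr.pos.ne' (hg ▸ dvd_mul_right r s), hg, Nat.mul_div_cancel_left _ hr.pos]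
  have hc : Commute (g ^ s) (g ^ r) := Commute.pow_pow_self g s r
  rcases prime_order_cases hr ha with rfl | rfl | rfl | rfl <;>
    rcases prime_order_cases hs hb with rfl | rfl | rfl | rfl <;>
    first
    | rfl
    | exact absurd rfl hrs
    | (refine (no_commuting_pair ?_ ?_ ha hb hc.symm).elim <;> norm_num; done)
    | (refine (no_commuting_pair ?_ ?_ hb ha hc).elim <;> norm_num; done)

end Cfsg.Agent.Lib.GTwoThree
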