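import Mathlib

/-!
Automorphisms of a seven-dimensional cross product algebra over the field with three elements:
their prime orders and the commuting pairs among them.
-/

set_option autoImplicit false

namespace Cfsg.Agent.Lib.GTwoThree

open Module

local notation "F₃" => ZMod 3

theorem zmod3_self_mul : ∀ x : F₃, x ≠ 0 → x * x = 1 := by decide

theorem zmod3_cube : ∀ x : F₃, x * x * x = x := by decide

theorem zmod3_self_add : ∀ x : F₃, x + x = 0 → x = 0 := by decide

theorem zmod3_odd_pow (x : F₃) {r : ℕ} (hr : Odd r) (h : x ^ r = 1) : x = 1 := by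
  obtain ⟨k, rfl⟩ := hr
  have hx : x ≠ 0 := by
    rintro rfl
    simp at h
  rwa [pow_succ, pow_mul, sq, zmod3_self_mul x hx, one_pow, one_mul] at h

section general

variable {W : Type*} [AddCommGroup W] [Module F₃ W] [Finite W]

theorem exists_fixed (β : LinearMap.BilinForm F₃ W) (hβ : ∀ u, (∀ v, β u v = 0) → u = 0) (T : Module.End F₃ W)
    (hT : ∀ u v, β (T u) (T v) = β u v) {r : ℕ} (hr : Odd r) (hTr : T ^ r = 1)
    (hd : Odd (finrank F₃ W)) : ∃ u, u ≠ 0 ∧ T u = u := by
  classical
  have : Module.Finite F₃ W := Module.Finite.of_finite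
  let b := Module.finBasis F₃ W
  set J := LinearMap.BilinForm.toMatrix b β with hJ
  set M := LinearMap.toMatrix b b T with hM
  have hJ0 : J.det ≠ 0 :=
    (LinearMap.BilinForm.nondegenerate_iff_det_ne_zero b).1 (LinearMap.BilinForm.Nondegenerate.ofSeparatingLeft hβ)
  have hMJ : M.transpose * J * M = J := by
    rw [hM, hJ, ← LinearMap.BilinForm.toMatrix_comp b b β T T]
    congr 1
    exact LinearMap.ext₂ hT
  have hdetM : M.det = 1 := by
    apply zmod3_odd_pow _ hr
    rw [hM, LinearMap.det_toMatrix, ← map_pow, hTr, map_one]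
  have h1 : (M.transpose - 1) * (J * M) = -(J * (M - 1)) := by
    rw [sub_mul, one_mul, ← mul_assoc, hMJ, mul_sub, mul_one]
    abel
  have h2 := congrArg Matrix.det h1
  rw [Matrix.det_mul, Matrix.det_mul, hdetM, mul_one, Matrix.det_neg, Matrix.det_mul, Fintype.card_fin,
    hd.neg_one_pow, show M.transpose - 1 = (M - 1).transpose by rw [Matrix.transpose_sub, Matrix.transpose_one],
    Matrix.det_transpose] at h2
  have h3 : (M - 1).det = 0 := by
    have h4 : (M - 1).det * J.det + (M - 1).det * J.det = 0 := by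
      linear_combination h2
    exact (mul_eq_zero.1 (zmod3_self_add _ h4)).resolve_right hJ0
  have h5 : LinearMap.det (T - 1) = 0 := by
    rw [← LinearMap.det_toMatrix b, map_sub, LinearMap.toMatrix_one, ← hM, h3]
  obtain ⟨u, hu, hu0⟩ := Submodule.exists_mem_ne_zero_of_ne_bot (LinearMap.bot_lt_ker_of_det_eq_zero h5).ne'
  refine ⟨u, hu0, ?_⟩
  rw [LinearMap.mem_ker, LinearMap.sub_apply, Module.End.one_apply, sub_eq_zero] at hu
  exact hu

theorem fpf_dvd {r : ℕ} (hr : r.Prime) (T : Module.End F₃ W) (hTr : T ^ r = 1)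
    (hfix : ∀ u, T u = u → u = 0) : r ∣ 3 ^ finrank F₃ W - 1 := by
  have : Fact r.Prime := ⟨hr⟩
  have : Module.Finite F₃ W := Module.Finite.of_finite
  let U : (Module.End F₃ W)ˣ := Units.ofPowEqOne T r hTr hr.pos.ne'
  have hU : U ^ r = 1 := Units.pow_ofPowEqOne _ _
  have hP : IsPGroup r (Subgroup.zpowers U) := by
    rintro ⟨g, i, rfl⟩
    refine ⟨1, Subtype.ext ?_⟩
    change (U ^ i) ^ (r ^ 1) = 1
    rw [pow_one, ← zpow_natCast, ← zpow_mul, mul_comm, zpow_mul, zpow_natCast, hU, one_zpow]
  have h := hP.card_modEq_card_fixedPoints (α := W)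
  have h1 : MulAction.fixedPoints (Subgroup.zpowers U) W = {(0 : W)} := by
    ext u
    simp only [MulAction.mem_fixedPoints, Set.mem_singleton_iff]
    constructor
    · intro hu
      exact hfix u (hu ⟨U, Subgroup.mem_zpowers U⟩)
    · rintro rfl g
      exact map_zero (g.1 : Module.End F₃ W)
  rw [h1, Nat.card_eq_fintype_card (α := ({(0 : W)} : Set W)), Set.card_singleton,
    Module.natCard_eq_pow_finrank (K := F₃), Nat.card_zmod] at h
  exact (Nat.modEq_iff_dvd' (Nat.one_le_pow _ _ (by norm_num))).1 h.symm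

end general

variable {V : Type*} [AddCommGroup V] [Module F₃ V]

/-- A cross product on a seven-dimensional quadratic space. -/
structure IsCross (B : LinearMap.BilinForm F₃ V) (μ : V →ₗ[F₃] V →ₗ[F₃] V) : Prop where
  symm : ∀ u v, B u v = B v u
  nondeg : ∀ u, (∀ v, B u v = 0) → u = 0
  dim : finrank F₃ V = 7
  ident : ∀ v u, μ v (μ v u) = B v v • u - B v u • v

/-- An automorphism of a cross product. -/
structure IsAut (B : LinearMap.BilinForm F₃ V) (μ : V →ₗ[F₃] V →ₗ[F₃] V) (y : Module.End F₃ V) : Prop where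
  form : ∀ u v, B (y u) (y v) = B u v
  prod : ∀ u v, μ (y u) (y v) = y (μ u v)

variable {B : LinearMap.BilinForm F₃ V} {μ : V →ₗ[F₃] V →ₗ[F₃] V}

theorem IsCross.polar (h : IsCross B μ) (a b u : V) :
    μ a (μ b u) + μ b (μ a u) = (B a b + B a b) • u - B a u • b - B b u • a := by
  have e := h.ident (a + b) u
  simp only [map_add, LinearMap.add_apply, h.ident a u, h.ident b u, add_smul, smul_add, h.symm b a] at e
  rw [← sub_eq_zero] at e ⊢
  convert e using 1
  rw [add_smul]
  abel

section element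

variable [Finite V] (hC : IsCross B μ) {y : Module.End F₃ V} (hy : IsAut B μ y) {r : ℕ} (hr : r.Prime)
  (h5 : 5 ≤ r) (hyr : y ^ r = 1)

include hr h5 hyr in
theorem disjoint_fixed {u : V} (hu : u ∈ LinearMap.range (y - 1)) (hfix : y u = u) : u = 0 := by
  obtain ⟨a, rfl⟩ := hu
  simp only [LinearMap.sub_apply, Module.End.one_apply] at hfix ⊢
  have key : ∀ i : ℕ, (y ^ i) a = a + i • (y a - a) := by
    intro i
    induction i with
    | zero => simp
    | succ i ih =>
      rw [pow_succ', Module.End.mul_apply, ih, map_add, map_nsmul, hfix, succ_nsmul]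
      abel
  have h := key r
  rw [hyr, Module.End.one_apply, left_eq_add, ← Nat.cast_smul_eq_nsmul F₃, smul_eq_zero] at h
  refine h.resolve_left fun h0 => ?_
  have : 3 ∣ r := (ZMod.natCast_eq_zero_iff _ _).1 h0
  have := (Nat.prime_dvd_prime_iff_eq Nat.prime_three hr).1 this
  omega

include hr h5 hyr in
theorem sup_eq_top : LinearMap.ker (y - 1) ⊔ LinearMap.range (y - 1) = ⊤ := by
  have : Module.Finite F₃ V := Module.Finite.of_finite
  apply Submodule.eq_top_of_disjoint
  · rw [add_comm, LinearMap.finrank_range_add_finrank_ker]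
  · rw [Submodule.disjoint_def]
    intro u hk hu
    refine disjoint_fixed hr h5 hyr hu ?_
    rw [LinearMap.mem_ker, LinearMap.sub_apply, Module.End.one_apply, sub_eq_zero] at hk
    exact hk

theorem mem_fixed {u : V} : u ∈ LinearMap.ker (y - 1) ↔ y u = u := by
  rw [LinearMap.mem_ker, LinearMap.sub_apply, Module.End.one_apply, sub_eq_zero]

include hy in
theorem orth {u w : V} (hu : u ∈ LinearMap.range (y - 1)) (hw : y w = w) : B u w = 0 := by
  obtain ⟨a, rfl⟩ := hu
  rw [LinearMap.sub_apply, Module.End.one_apply, map_sub, LinearMap.sub_apply]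
  conv_lhs => arg 1; rw [← hw]
  rw [hy.form, sub_self]

theorem range_invariant {u : V} (hu : u ∈ LinearMap.range (y - 1)) : y u ∈ LinearMap.range (y - 1) := by
  obtain ⟨a, rfl⟩ := hu
  exact ⟨y a, by simp⟩

theorem range_invariant_of_commute {z : Module.End F₃ V} (hzy : Commute z y) {u : V}
    (hu : u ∈ LinearMap.range (y - 1)) : z u ∈ LinearMap.range (y - 1) := by
  obtain ⟨a, rfl⟩ := hu
  refine ⟨z a, ?_⟩
  simp only [LinearMap.sub_apply, Module.End.one_apply, map_sub]
  rw [← Module.End.mul_apply, ← hzy.eq, Module.End.mul_apply]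

include hy in
theorem prod_fixed_mem_range {w u : V} (hw : y w = w) (hu : u ∈ LinearMap.range (y - 1)) :
    μ w u ∈ LinearMap.range (y - 1) := by
  obtain ⟨a, rfl⟩ := hu
  refine ⟨μ w a, ?_⟩
  simp only [LinearMap.sub_apply, Module.End.one_apply, map_sub]
  rw [← hy.prod, hw]

include hr h5 hyr in
theorem subspace_dvd (U : Submodule F₃ V) (hU : U ≤ LinearMap.range (y - 1)) (hinv : ∀ u ∈ U, y u ∈ U) :
    r ∣ 3 ^ finrank F₃ U - 1 := by
  let T : Module.End F₃ U := y.restrict hinv
  have hT : ∀ (k : ℕ) (u : U), (((T ^ k) u : U) : V) = (y ^ k) u := by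
    intro k
    induction k with
    | zero => simp
    | succ k ih =>
      intro u
      rw [pow_succ', pow_succ', Module.End.mul_apply, Module.End.mul_apply, ← ih u]
      rfl
  refine fpf_dvd hr T ?_ fun u hu => ?_
  · apply LinearMap.ext
    intro u
    apply Subtype.ext
    rw [hT, hyr]
    rfl
  · exact Subtype.ext (disjoint_fixed hr h5 hyr (hU u.2) (congrArg Subtype.val hu))

include hy hr h5 hyr in
theorem subspace_even (U : Submodule F₃ V) (hU : U ≤ LinearMap.range (y - 1)) (hinv : ∀ u ∈ U, y u ∈ U)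
    (hnd : ∀ u ∈ U, (∀ v ∈ U, B u v = 0) → u = 0) : Even (finrank F₃ U) := by
  rcases Nat.even_or_odd (finrank F₃ U) with h | h
  · exact h
  exfalso
  let T : Module.End F₃ U := y.restrict hinv
  let β : LinearMap.BilinForm F₃ U := B.compl₁₂ U.subtype U.subtype
  have hT : ∀ (k : ℕ) (u : U), (((T ^ k) u : U) : V) = (y ^ k) u := by
    intro k
    induction k with
    | zero => simp
    | succ k ih =>
      intro u
      rw [pow_succ', pow_succ', Module.End.mul_apply, Module.End.mul_apply, ← ih u]
      rfl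
  obtain ⟨u, hu0, hu⟩ := exists_fixed β (fun u hu => Subtype.ext (hnd u u.2 fun v hv => hu ⟨v, hv⟩)) T
    (fun a b => hy.form a b) (hr.odd_of_ne_two (by omega))
    (LinearMap.ext fun u => Subtype.ext (by rw [hT, hyr]; rfl)) h
  exact hu0 (Subtype.ext (disjoint_fixed hr h5 hyr (hU u.2) (congrArg Subtype.val hu)))

include hC hy hr h5 hyr in
theorem range_nondeg {u : V} (hu : u ∈ LinearMap.range (y - 1))
    (h : ∀ v ∈ LinearMap.range (y - 1), B u v = 0) : u = 0 := by
  apply hC.nondeg
  intro v
  obtain ⟨w, hw, v', hv', rfl⟩ := Submodule.mem_sup.1 (show v ∈ LinearMap.ker (y - 1) ⊔ LinearMap.range (y - 1) by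
    rw [sup_eq_top hr h5 hyr]; trivial)
  rw [map_add, orth hy hu (mem_fixed.1 hw), h v' hv', add_zero]

include hC hy hr h5 hyr in
theorem fixed_nondeg {u : V} (hu : y u = u) (h : ∀ v, y v = v → B u v = 0) : u = 0 := by
  apply hC.nondeg
  intro v
  obtain ⟨w, hw, v', hv', rfl⟩ := Submodule.mem_sup.1 (show v ∈ LinearMap.ker (y - 1) ⊔ LinearMap.range (y - 1) by
    rw [sup_eq_top hr h5 hyr]; trivial)
  rw [map_add, hC.symm u v', orth hy hv' hu, h w (mem_fixed.1 hw), add_zero]

include hC hy hr h5 hyr in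
theorem dims (hy1 : y ≠ 1) : finrank F₃ (LinearMap.range (y - 1)) + finrank F₃ (LinearMap.ker (y - 1)) = 7 ∧
    ((r = 5 ∧ finrank F₃ (LinearMap.range (y - 1)) = 4) ∨
      ((r = 7 ∨ r = 13) ∧ finrank F₃ (LinearMap.range (y - 1)) = 6)) := by
  have : Module.Finite F₃ V := Module.Finite.of_finite
  have hsum : finrank F₃ (LinearMap.range (y - 1)) + finrank F₃ (LinearMap.ker (y - 1)) = 7 := by
    rw [LinearMap.finrank_range_add_finrank_ker, hC.dim]
  refine ⟨hsum, ?_⟩
  have hpos : finrank F₃ (LinearMap.range (y - 1)) ≠ 0 := by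
    intro h
    rw [Submodule.finrank_eq_zero, LinearMap.range_eq_bot, sub_eq_zero] at h
    exact hy1 h
  have hd := subspace_dvd hr h5 hyr (LinearMap.range (y - 1)) le_rfl fun u hu => range_invariant hu
  have he := subspace_even hy hr h5 hyr (LinearMap.range (y - 1)) le_rfl (fun u hu => range_invariant hu)
    fun u hu h => range_nondeg hC hy hr h5 hyr hu h
  generalize finrank F₃ (LinearMap.range (y - 1)) = d at *
  have hd7 : d ≤ 7 := by omega
  have hpr : ∀ {m : ℕ}, m.Prime → r ∣ m → r = m := fun hm h => (Nat.prime_dvd_prime_iff_eq hr hm).1 h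
  interval_cases d
  · omega
  · exact absurd he (by decide)
  · exfalso
    have : r ∣ 2 ^ 3 := by simpa using hd
    have := hpr Nat.prime_two (hr.dvd_of_dvd_pow this)
    omega
  · exact absurd he (by decide)
  · left
    refine ⟨?_, rfl⟩
    have h : r ∣ 2 ^ 4 * 5 := by simpa using hd
    rcases hr.dvd_mul.1 h with h | h
    · have := hpr Nat.prime_two (hr.dvd_of_dvd_pow h)
      omega
    · exact hpr (by norm_num) h
  · exact absurd he (by decide)
  · right
    refine ⟨?_, rfl⟩
    have h : r ∣ 2 ^ 3 * (7 * 13) := by simpa using hd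
    rcases hr.dvd_mul.1 h with h | h
    · have := hpr Nat.prime_two (hr.dvd_of_dvd_pow h)
      omega
    · rcases hr.dvd_mul.1 h with h | h
      · exact Or.inl (hpr (by norm_num) h)
      · exact Or.inr (hpr (by norm_num) h)
  · exact absurd he (by decide)

/-- The polynomials in `y`, applied to a vector. -/
noncomputable def orbitMap (y : Module.End F₃ V) (u : V) : Polynomial F₃ →ₗ[F₃] V :=
  (LinearMap.applyₗ u).comp (Polynomial.aeval y).toLinearMap

omit [Finite V] in
theorem orbitMap_apply (u : V) (f : Polynomial F₃) : orbitMap y u f = Polynomial.aeval y f u := rfl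

omit [Finite V] in
theorem orbit_invariant (u : V) : ∀ v ∈ LinearMap.range (orbitMap y u), y v ∈ LinearMap.range (orbitMap y u) := by
  rintro _ ⟨f, rfl⟩
  refine ⟨Polynomial.X * f, ?_⟩
  rw [orbitMap_apply, orbitMap_apply, map_mul, Polynomial.aeval_X, Module.End.mul_apply]

omit [Finite V] in
theorem self_mem_orbit (u : V) : u ∈ LinearMap.range (orbitMap y u) := ⟨1, by simp [orbitMap_apply]⟩

theorem aeval_invariant (U : Submodule F₃ V) (hU : ∀ v ∈ U, y v ∈ U) (f : Polynomial F₃) :
    ∀ v ∈ U, Polynomial.aeval y f v ∈ U := by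
  induction f using Polynomial.induction_on' with
  | add a b ha hb =>
    intro v hv
    rw [map_add, LinearMap.add_apply]
    exact U.add_mem (ha v hv) (hb v hv)
  | monomial k c =>
    intro v hv
    rw [Polynomial.aeval_monomial, ← Algebra.smul_def, LinearMap.smul_apply]
    refine U.smul_mem _ ?_
    induction k with
    | zero => simpa using hv
    | succ k ih => rw [pow_succ', Module.End.mul_apply]; exact hU _ ih

theorem orbit_le (U : Submodule F₃ V) (hU : ∀ v ∈ U, y v ∈ U) {u : V} (hu : u ∈ U) :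
    LinearMap.range (orbitMap y u) ≤ U := by
  rintro _ ⟨f, rfl⟩
  exact aeval_invariant U hU f u hu

include hC hy hr h5 hyr in
theorem no_five (hy1 : y ≠ 1) : r ≠ 5 := by
  intro h
  subst h
  have : Module.Finite F₃ V := Module.Finite.of_finite
  obtain ⟨hsum, h | h⟩ := dims hC hy hr h5 hyr hy1
  swap; · omega
  obtain ⟨-, hd⟩ := h
  have hdW : finrank F₃ (LinearMap.ker (y - 1)) = 3 := by omega
  -- two orthogonal anisotropic fixed vectors
  obtain ⟨w₁, hw₁, hQ₁⟩ : ∃ w, y w = w ∧ B w w ≠ 0 := by
    by_contra hcon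
    push Not at hcon
    obtain ⟨u, hu, hu0⟩ := Submodule.exists_mem_ne_zero_of_ne_bot (p := LinearMap.ker (y - 1))
      (fun h0 => by rw [h0, finrank_bot] at hdW; omega)
    refine hu0 (fixed_nondeg hC hy hr h5 hyr (mem_fixed.1 hu) fun v hv => ?_)
    have h1 := hcon (u + v) (by rw [map_add, mem_fixed.1 hu, hv])
    simp only [map_add, LinearMap.add_apply, hcon u (mem_fixed.1 hu), hcon v hv, hC.symm v u,
      zero_add, add_zero] at h1
    exact zmod3_self_add _ h1
  obtain ⟨w₂, hw₂, hB12, hQ₂⟩ : ∃ w, y w = w ∧ B w₁ w = 0 ∧ B w w ≠ 0 := by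
    by_contra hcon
    push Not at hcon
    let U : Submodule F₃ V := LinearMap.ker (y - 1) ⊓ LinearMap.ker (B w₁)
    have hUne : U ≠ ⊥ := by
      intro h0
      have hinj : Function.Injective ((B w₁).domRestrict (LinearMap.ker (y - 1))) := by
        rw [← LinearMap.ker_eq_bot, Submodule.eq_bot_iff]
        intro v hv
        have hvU : (v : V) ∈ U := ⟨v.2, hv⟩
        rw [h0, Submodule.mem_bot] at hvU
        exact Subtype.ext hvU
      have := LinearMap.finrank_le_finrank_of_injective hinj
      rw [hdW, Module.finrank_self] at this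
      omega
    obtain ⟨u, ⟨hu, huB⟩, hu0⟩ := Submodule.exists_mem_ne_zero_of_ne_bot hUne
    have huB' : B w₁ u = 0 := huB
    refine hu0 (fixed_nondeg hC hy hr h5 hyr (mem_fixed.1 hu) fun v hv => ?_)
    set c := B w₁ v / B w₁ w₁
    have hv' : y (v - c • w₁) = v - c • w₁ := by rw [map_sub, map_smul, hv, hw₁]
    have hv'' : B w₁ (v - c • w₁) = 0 := by
      rw [map_sub, map_smul, smul_eq_mul, div_mul_cancel₀ _ hQ₁, sub_self]
    have h1 := hcon (u + (v - c • w₁)) (by rw [map_add, mem_fixed.1 hu, hv']) (by rw [map_add, huB', hv'', add_zero])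
    have h2 := hcon u (mem_fixed.1 hu) huB'
    have h3 := hcon _ hv' hv''
    have h4 : B u (v - c • w₁) = 0 := by
      rw [map_add B, LinearMap.add_apply, map_add (B u), map_add (B (v - c • w₁)), h2, h3,
        hC.symm (v - c • w₁) u, zero_add, add_zero] at h1
      exact zmod3_self_add _ h1
    rw [map_sub, map_smul, hC.symm u w₁, huB', smul_zero, sub_zero] at h4
    exact h4
  obtain ⟨u, hu, hu0⟩ := Submodule.exists_mem_ne_zero_of_ne_bot (p := LinearMap.range (y - 1))
    (fun h0 => by rw [h0, finrank_bot] at hd; omega)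
  have hspan : LinearMap.range (orbitMap y u) = LinearMap.range (y - 1) := by
    have hle := orbit_le (y := y) _ (fun v hv => range_invariant hv) hu
    refine Submodule.eq_of_le_of_finrank_eq hle ?_
    have hdv := subspace_dvd hr h5 hyr _ hle (orbit_invariant u)
    have hle' := Submodule.finrank_mono hle
    have hne : finrank F₃ (LinearMap.range (orbitMap y u)) ≠ 0 := by
      intro h0
      rw [Submodule.finrank_eq_zero] at h0
      have := self_mem_orbit (y := y) u
      rw [h0, Submodule.mem_bot] at this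
      exact hu0 this
    rw [hd] at hle' ⊢
    generalize finrank F₃ (LinearMap.range (orbitMap y u)) = d at *
    interval_cases d <;> first | omega | (norm_num at hdv)
  have hcom : ∀ (w : V), y w = w → ∀ (f : Polynomial F₃) (v : V),
      μ w (Polynomial.aeval y f v) = Polynomial.aeval y f (μ w v) := by
    intro w hw f
    induction f using Polynomial.induction_on' with
    | add a b ha hb => intro v; simp [ha, hb]
    | monomial k c =>
      intro v
      rw [Polynomial.aeval_monomial, ← Algebra.smul_def, LinearMap.smul_apply, map_smul, LinearMap.smul_apply]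
      congr 1
      induction k generalizing v with
      | zero => simp
      | succ k ih =>
        rw [pow_succ, Module.End.mul_apply, Module.End.mul_apply, ih, ← hy.prod w v, hw]
  have hm₁ := prod_fixed_mem_range hy hw₁ hu
  have hm₂ := prod_fixed_mem_range hy hw₂ hu
  rw [← hspan] at hm₁ hm₂
  obtain ⟨f₁, hf₁⟩ := hm₁
  obtain ⟨f₂, hf₂⟩ := hm₂
  rw [orbitMap_apply] at hf₁ hf₂
  have hswap : μ w₁ (μ w₂ u) = μ w₂ (μ w₁ u) := by
    rw [← hf₂, hcom w₁ hw₁, ← hf₁, hcom w₂ hw₂, ← hf₂]
    rw [← Module.End.mul_apply, ← Module.End.mul_apply, ← map_mul, ← map_mul, mul_comm]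
  have hp := hC.polar w₁ w₂ u
  rw [← hswap, hB12, hC.symm w₁ u, orth hy hu hw₁, hC.symm w₂ u, orth hy hu hw₂] at hp
  simp only [add_zero, zero_smul, sub_zero] at hp
  rw [← two_smul F₃, smul_eq_zero] at hp
  have hz := hp.resolve_left (by decide)
  have h1 := congrArg (μ w₁) hz
  rw [hC.ident, map_zero, hC.symm w₁ (μ w₂ u), orth hy (prod_fixed_mem_range hy hw₂ hu) hw₁, zero_smul,
    sub_zero, smul_eq_zero] at h1
  have h2 := congrArg (μ w₂) (h1.resolve_left hQ₁)
  rw [hC.ident, map_zero, hC.symm w₂ u, orth hy hu hw₂, zero_smul, sub_zero, smul_eq_zero] at h2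
  exact hu0 (h2.resolve_left hQ₂)

include hC hy hr h5 hyr in
theorem prime_cases (hy1 : y ≠ 1) : r = 7 ∨ r = 13 := by
  rcases (dims hC hy hr h5 hyr hy1).2 with ⟨h, -⟩ | ⟨h, -⟩
  · exact absurd h (no_five hC hy hr h5 hyr hy1)
  · exact h

include hC hy hr h5 hyr in
theorem exists_fixed_spanning (hy1 : y ≠ 1) : ∃ e, y e = e ∧ B e e ≠ 0 ∧ ∀ v, y v = v → ∃ c : F₃, c • e = v := by
  have : Module.Finite F₃ V := Module.Finite.of_finite
  obtain ⟨hsum, h⟩ := dims hC hy hr h5 hyr hy1
  have h6 : finrank F₃ (LinearMap.range (y - 1)) = 6 := by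
    rcases h with ⟨h, -⟩ | ⟨-, h⟩
    · exact absurd h (no_five hC hy hr h5 hyr hy1)
    · exact h
  obtain ⟨e, -, he⟩ := finrank_eq_one_iff'.1 (show finrank F₃ (LinearMap.ker (y - 1)) = 1 by omega)
  have hall : ∀ v, y v = v → ∃ c : F₃, c • (e : V) = v := by
    intro v hv
    obtain ⟨c, hc⟩ := he ⟨v, mem_fixed.2 hv⟩
    exact ⟨c, congrArg Subtype.val hc⟩
  refine ⟨e, mem_fixed.1 e.2, fun h0 => ?_, hall⟩
  have he0 := fixed_nondeg hC hy hr h5 hyr (mem_fixed.1 e.2) fun v hv => by
    obtain ⟨c, rfl⟩ := hall v hv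
    rw [map_smul, h0, smul_zero]
  have hbot : LinearMap.ker (y - 1) = ⊥ := by
    rw [Submodule.eq_bot_iff]
    intro v hv
    obtain ⟨c, rfl⟩ := hall v (mem_fixed.1 hv)
    rw [he0, smul_zero]
  rw [hbot, finrank_bot] at hsum
  omega

include hC hy hr h5 hyr in
theorem range_dim (hy1 : y ≠ 1) : finrank F₃ (LinearMap.range (y - 1)) = 6 := by
  rcases (dims hC hy hr h5 hyr hy1).2 with ⟨h, -⟩ | ⟨-, h⟩
  · exact absurd h (no_five hC hy hr h5 hyr hy1)
  · exact h

include hC hy hr h5 hyr in
theorem no_commuting_two (hy1 : y ≠ 1) {z : Module.End F₃ V} (hz : IsAut B μ z) (hzy : Commute z y)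
    (hz2 : z ^ 2 = 1) : z = 1 := by
  by_contra hz1
  have : Module.Finite F₃ V := Module.Finite.of_finite
  obtain ⟨e, he, hQ, hall⟩ := exists_fixed_spanning hC hy hr h5 hyr hy1
  set R := LinearMap.range (y - 1) with hR
  have hR6 : finrank F₃ R = 6 := range_dim hC hy hr h5 hyr hy1
  have hzz : ∀ v, z (z v) = v := fun v => by
    rw [← Module.End.mul_apply, ← sq, hz2, Module.End.one_apply]
  have hyz : ∀ v, y (z v) = z (y v) := fun v => by
    rw [← Module.End.mul_apply, ← hzy.eq, Module.End.mul_apply]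
  have hzR : ∀ v ∈ R, z v ∈ R := fun v hv => range_invariant_of_commute hzy hv
  obtain ⟨c, hc⟩ := hall (z e) (by rw [hyz, he])
  have hcc : c * c = 1 := by
    have h := hz.form e e
    simp only [← hc, map_smul, LinearMap.smul_apply, smul_eq_mul, ← mul_assoc] at h
    exact mul_eq_right₀ hQ |>.1 h
  -- the action on the six-dimensional part
  set P : Submodule F₃ V := R ⊓ LinearMap.ker (z - 1) with hP
  have hPinv : ∀ v ∈ P, y v ∈ P := by
    rintro v ⟨hv, hv'⟩
    refine ⟨range_invariant hv, ?_⟩
    rw [SetLike.mem_coe, LinearMap.mem_ker, LinearMap.sub_apply, Module.End.one_apply, sub_eq_zero] at hv' ⊢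
    rw [← hyz, hv']
  have hPnd : ∀ u ∈ P, (∀ v ∈ P, B u v = 0) → u = 0 := by
    rintro u ⟨hu, hu'⟩ h
    rw [SetLike.mem_coe, LinearMap.mem_ker, LinearMap.sub_apply, Module.End.one_apply, sub_eq_zero] at hu'
    refine range_nondeg hC hy hr h5 hyr hu fun v hv => ?_
    have h1 : B u (v + z v) = 0 := h _ ⟨R.add_mem hv (hzR v hv), by
      rw [SetLike.mem_coe, LinearMap.mem_ker, LinearMap.sub_apply, Module.End.one_apply, map_add, hzz]; abel⟩
    have h2 : B u (z v) = B u v := by
      conv_lhs => rw [← hu', hz.form]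
    rw [map_add, h2] at h1
    exact zmod3_self_add _ h1
  have hd := subspace_dvd hr h5 hyr P inf_le_left hPinv
  have he' := subspace_even hy hr h5 hyr P inf_le_left hPinv hPnd
  have hle : finrank F₃ P ≤ finrank F₃ R := Submodule.finrank_mono inf_le_left
  have hP06 : finrank F₃ P = 0 ∨ finrank F₃ P = 6 := by
    rw [hR6] at hle
    rcases prime_cases hC hy hr h5 hyr hy1 with rfl | rfl <;>
    · generalize finrank F₃ P = d at *
      interval_cases d <;> first | omega | (exact absurd he' (by decide)) | (norm_num at hd)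
  obtain ⟨ε, hε, hzε⟩ : ∃ ε : F₃, (ε = 1 ∨ ε = -1) ∧ ∀ v ∈ R, z v = ε • v := by
    rcases hP06 with h | h
    · refine ⟨-1, Or.inr rfl, fun v hv => ?_⟩
      have h1 : v + z v ∈ P := ⟨R.add_mem hv (hzR v hv), by
        rw [SetLike.mem_coe, LinearMap.mem_ker, LinearMap.sub_apply, Module.End.one_apply, map_add, hzz]; abel⟩
      rw [Submodule.finrank_eq_zero.1 h, Submodule.mem_bot] at h1
      rw [neg_one_smul, eq_neg_iff_add_eq_zero, add_comm, h1]
    · refine ⟨1, Or.inl rfl, fun v hv => ?_⟩
      have hPR : P = R := Submodule.eq_of_le_of_finrank_eq inf_le_left (h.trans hR6.symm)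
      rw [← hPR] at hv
      have := hv.2
      rw [SetLike.mem_coe, LinearMap.mem_ker, LinearMap.sub_apply, Module.End.one_apply, sub_eq_zero] at this
      rw [one_smul, this]
  have hc' : c = 1 ∨ c = -1 := by
    have : ∀ x : F₃, x * x = 1 → x = 1 ∨ x = -1 := by decide
    exact this c hcc
  have hsplit : ∀ v, ∃ a : F₃, ∃ v' ∈ R, v = a • e + v' := by
    intro v
    obtain ⟨w, hw, v', hv', rfl⟩ := Submodule.mem_sup.1 (show v ∈ LinearMap.ker (y - 1) ⊔ R by
      rw [hR, sup_eq_top hr h5 hyr]; trivial)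
    obtain ⟨a, rfl⟩ := hall w (mem_fixed.1 hw)
    exact ⟨a, v', hv', rfl⟩
  obtain ⟨u, hu, hu0⟩ := Submodule.exists_mem_ne_zero_of_ne_bot (p := R)
    (fun h0 => by rw [h0, finrank_bot] at hR6; omega)
  have hBeu : ∀ v ∈ R, B e v = 0 := fun v hv => by rw [hC.symm, orth hy hv he]
  rcases hε with rfl | rfl
  · -- trivial on the six-dimensional part
    rcases hc' with rfl | rfl
    · refine hz1 (LinearMap.ext fun v => ?_)
      obtain ⟨a, v', hv', rfl⟩ := hsplit v
      rw [map_add, map_smul, ← hc, hzε v' hv', one_smul, one_smul, Module.End.one_apply]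
    · have hkill : ∀ v ∈ R, μ e v = 0 := by
        intro v hv
        have h1 := hz.prod e v
        rw [← hc, hzε v hv, one_smul, neg_one_smul, map_neg, LinearMap.neg_apply,
          hzε _ (prod_fixed_mem_range hy he hv), one_smul, neg_eq_iff_add_eq_zero, ← two_smul F₃, smul_eq_zero] at h1
        exact h1.resolve_left (by decide)
      have h1 := hC.ident e u
      rw [hkill u hu, map_zero, hBeu u hu, zero_smul, sub_zero, eq_comm, smul_eq_zero] at h1
      exact hu0 (h1.resolve_left hQ)
  · rcases hc' with rfl | rfl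
    · obtain ⟨a, ha, hQa⟩ : ∃ a ∈ R, B a a ≠ 0 := by
        by_contra hcon
        push Not at hcon
        refine hu0 (range_nondeg hC hy hr h5 hyr hu fun v hv => ?_)
        have h1 := hcon (u + v) (R.add_mem hu hv)
        simp only [map_add, LinearMap.add_apply, hcon u hu, hcon v hv, hC.symm v u, zero_add,
          add_zero] at h1
        exact zmod3_self_add _ h1
      have hline : ∀ v ∈ R, ∃ d : F₃, μ a v = d • e := by
        intro v hv
        obtain ⟨d, v', hv', hdv⟩ := hsplit (μ a v)
        have h1 := hz.prod a v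
        rw [hzε a ha, hzε v hv, map_smul μ, LinearMap.smul_apply, map_smul, smul_smul, neg_one_mul, neg_neg,
          one_smul, hdv, map_add, map_smul, ← hc, one_smul, hzε v' hv', neg_one_smul, add_right_inj,
          eq_neg_iff_add_eq_zero, ← two_smul F₃, smul_eq_zero] at h1
        exact ⟨d, by rw [hdv, h1.resolve_left (by decide), add_zero]⟩
      let H : Submodule F₃ V := R ⊓ LinearMap.ker (B a)
      have hH : 5 ≤ finrank F₃ H := by
        have h1 := Submodule.finrank_sup_add_finrank_inf_eq R (LinearMap.ker (B a))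
        have h2 := LinearMap.finrank_range_add_finrank_ker (B a)
        have h3 := Submodule.finrank_le (LinearMap.range (B a))
        have h4 := Submodule.finrank_le (R ⊔ LinearMap.ker (B a))
        rw [Module.finrank_self] at h3
        rw [hC.dim] at h2 h4
        change 5 ≤ finrank F₃ (R ⊓ LinearMap.ker (B a) : Submodule F₃ V)
        omega
      have hinj : Function.Injective ((μ a).restrict (p := H) (q := Submodule.span F₃ {e}) (fun v hv => by
          obtain ⟨d, hd⟩ := hline v hv.1
          rw [hd]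
          exact Submodule.smul_mem _ _ (Submodule.mem_span_singleton_self e))) := by
        rw [← LinearMap.ker_eq_bot, Submodule.eq_bot_iff]
        intro v hv
        have hv' : μ a v = 0 := congrArg Subtype.val hv
        have h1 := hC.ident a v
        have hBv : B a v = 0 := v.2.2
        rw [hv', map_zero, hBv, zero_smul, sub_zero, eq_comm, smul_eq_zero] at h1
        exact Subtype.ext (h1.resolve_left hQa)
      have h1 := LinearMap.finrank_le_finrank_of_injective hinj
      have h2 : finrank F₃ (Submodule.span F₃ {e}) ≤ 1 := by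
        refine (finrank_span_le_card ({e} : Set V)).trans ?_
        simp
      omega
    · have hneg : ∀ v, z v = -v := by
        intro v
        obtain ⟨a, v', hv', rfl⟩ := hsplit v
        rw [map_add, map_smul, ← hc, hzε v' hv', neg_one_smul, neg_one_smul, smul_neg, neg_add]
      have hμ0 : ∀ a b, μ a b = 0 := by
        intro a b
        have h1 := hz.prod a b
        rw [hneg, hneg, hneg, map_neg μ, LinearMap.neg_apply, map_neg, neg_neg, eq_neg_iff_add_eq_zero,
          ← two_smul F₃, smul_eq_zero] at h1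
        exact h1.resolve_left (by decide)
      have h1 := hC.ident e u
      rw [hμ0, hBeu u hu, zero_smul, sub_zero, eq_comm, smul_eq_zero] at h1
      exact hu0 (h1.resolve_left hQ)

include hC hy hr h5 hyr in
theorem no_commuting_three (hy1 : y ≠ 1) {z : Module.End F₃ V} (hz : IsAut B μ z) (hzy : Commute z y)
    (hz3 : z ^ 3 = 1) : z = 1 := by
  by_contra hz1
  have : Module.Finite F₃ V := Module.Finite.of_finite
  obtain ⟨e, he, hQ, hall⟩ := exists_fixed_spanning hC hy hr h5 hyr hy1
  set R := LinearMap.range (y - 1) with hR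
  have hR6 : finrank F₃ R = 6 := range_dim hC hy hr h5 hyr hy1
  have hyz : ∀ v, y (z v) = z (y v) := fun v => by
    rw [← Module.End.mul_apply, ← hzy.eq, Module.End.mul_apply]
  set N := z - 1 with hN
  have hNa : ∀ v, N v = z v - v := fun v => rfl
  have hN3 : ∀ v, N (N (N v)) = 0 := by
    intro v
    have e1 : ∀ v, z (z (z v)) = v := fun v => by
      have := congrArg (fun f : Module.End F₃ V => f v) hz3
      rw [pow_succ, pow_succ, pow_one] at this
      simpa [Module.End.mul_apply] using this
    simp only [hNa, map_sub, e1]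
    have h3 : (3 : F₃) = 0 := by decide
    have : v - z (z v) - (z (z v) - z v) - (z (z v) - z v - (z v - v)) = (3 : F₃) • (z v - z (z v)) := by
      rw [show (3 : F₃) = 1 + 1 + 1 by decide, add_smul, add_smul, one_smul]
      abel
    rw [this, h3, zero_smul]
  obtain ⟨c, hc⟩ := hall (z e) (by rw [hyz, he])
  have hNe : N e = 0 := by
    have h := hN3 e
    have hne : N e = (c - 1) • e := by rw [hNa, ← hc, sub_smul, one_smul]
    rw [hne, map_smul, hne, smul_smul, map_smul, hne, smul_smul, zmod3_cube] at h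
    rw [hne, h]
  have hNR : ∀ v ∈ R, N v ∈ R := fun v hv => R.sub_mem (range_invariant_of_commute hzy hv) hv
  have hNy : ∀ v, y (N v) = N (y v) := fun v => by rw [hNa, hNa, map_sub, hyz]
  let M : Module.End F₃ R := N.restrict hNR
  have hMa : ∀ v : R, ((M v : R) : V) = N v := fun _ => rfl
  have hM0 : M ≠ 0 := by
    intro h0
    apply hz1
    apply LinearMap.ext
    intro v
    obtain ⟨w, hw, v', hv', rfl⟩ := Submodule.mem_sup.1 (show v ∈ LinearMap.ker (y - 1) ⊔ R by
      rw [hR, sup_eq_top hr h5 hyr]; trivial)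
    obtain ⟨a, rfl⟩ := hall w (mem_fixed.1 hw)
    have h1 : N v' = 0 := congrArg Subtype.val (LinearMap.congr_fun h0 ⟨v', hv'⟩)
    rw [hNa, sub_eq_zero] at hNe h1
    rw [map_add, map_smul, hNe, h1, Module.End.one_apply]
  -- dimensions of invariant subspaces
  have hsub : ∀ U : Submodule F₃ V, U ≤ R → (∀ u ∈ U, y u ∈ U) →
      finrank F₃ U = 0 ∨ finrank F₃ U = 6 ∨ (r = 13 ∧ finrank F₃ U = 3) := by
    intro U hUR hUy
    have hd := subspace_dvd hr h5 hyr U hUR hUy
    have hle : finrank F₃ U ≤ finrank F₃ R := Submodule.finrank_mono hUR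
    rw [hR6] at hle
    rcases prime_cases hC hy hr h5 hyr hy1 with rfl | rfl <;>
    · generalize finrank F₃ U = d at *
      interval_cases d <;> first | omega | (norm_num at hd) | simp
  set I1 : Submodule F₃ V := R.map N with hI1
  set I2 : Submodule F₃ V := I1.map N with hI2
  have hI1R : I1 ≤ R := Submodule.map_le_iff_le_comap.2 fun v hv => hNR v hv
  have hI21 : I2 ≤ I1 := Submodule.map_mono hI1R
  have hI1y : ∀ u ∈ I1, y u ∈ I1 := by
    rintro _ ⟨v, hv, rfl⟩
    exact ⟨y v, range_invariant hv, (hNy v).symm⟩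
  have hI2y : ∀ u ∈ I2, y u ∈ I2 := by
    rintro _ ⟨v, hv, rfl⟩
    exact ⟨y v, hI1y v hv, (hNy v).symm⟩
  have hI1ne : I1 ≠ ⊥ := by
    intro h0
    apply hM0
    apply LinearMap.ext
    intro v
    apply Subtype.ext
    have : N v ∈ I1 := ⟨v, v.2, rfl⟩
    rw [h0, Submodule.mem_bot] at this
    exact this
  have hI1lt : I1 ≠ R := by
    intro h0
    have h2 : I2 = R := by rw [hI2, h0, ← hI1, h0]
    apply hI1ne
    rw [Submodule.eq_bot_iff, h0]
    intro v hv
    rw [← h2] at hv
    obtain ⟨v1, hv1, rfl⟩ := hv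
    rw [h0, ← h2] at hv1
    obtain ⟨v2, hv2, rfl⟩ := hv1
    rw [h0, ← h2] at hv2
    obtain ⟨v3, hv3, rfl⟩ := hv2
    exact hN3 v3
  obtain ⟨h13, hI13⟩ : r = 13 ∧ finrank F₃ I1 = 3 := by
    rcases hsub I1 hI1R hI1y with h | h | h
    · exact absurd (Submodule.finrank_eq_zero.1 h) hI1ne
    · exact absurd (Submodule.eq_of_le_of_finrank_eq hI1R (h.trans hR6.symm)) hI1lt
    · exact h
  have hI2bot : I2 = ⊥ := by
    rcases hsub I2 (hI21.trans hI1R) hI2y with h | h | ⟨-, h⟩
    · exact Submodule.finrank_eq_zero.1 h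
    · have := Submodule.finrank_mono hI21
      omega
    · exfalso
      have h21 : I2 = I1 := Submodule.eq_of_le_of_finrank_eq hI21 (h.trans hI13.symm)
      apply hI1ne
      rw [Submodule.eq_bot_iff]
      intro v hv
      rw [← h21] at hv
      obtain ⟨v1, hv1, rfl⟩ := hv
      rw [← h21] at hv1
      obtain ⟨v2, hv2, rfl⟩ := hv1
      obtain ⟨v3, hv3, rfl⟩ := hv2
      exact hN3 v3
  have hNN : ∀ v ∈ R, N (N v) = 0 := fun v hv => by
    have : N (N v) ∈ I2 := ⟨N v, ⟨v, hv, rfl⟩, rfl⟩
    rwa [hI2bot, Submodule.mem_bot] at this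
  let π : R →ₗ[F₃] I1 := N.restrict (p := R) (q := I1) fun v hv => ⟨v, hv, rfl⟩
  have hπ : Function.Surjective π := by
    rintro ⟨_, v, hv, rfl⟩
    exact ⟨⟨v, hv⟩, rfl⟩
  obtain ⟨s, hs⟩ := LinearMap.exists_rightInverse_of_surjective π (LinearMap.range_eq_top.2 hπ)
  have hs' : ∀ a : I1, N (s a : V) = a := fun a =>
    congrArg Subtype.val (LinearMap.congr_fun hs a)
  have hker : ∀ v ∈ R, N v = 0 → v ∈ I1 := by
    intro v hv h0
    have hk : finrank F₃ (LinearMap.ker π) = finrank F₃ I1 := by
      have := LinearMap.finrank_range_add_finrank_ker π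
      rw [LinearMap.range_eq_top.2 hπ, finrank_top, hI13, hR6] at this
      omega
    have hle : I1 ≤ Submodule.map R.subtype (LinearMap.ker π) := by
      rintro _ ⟨w, hw, rfl⟩
      exact ⟨⟨N w, hNR w hw⟩, Subtype.ext (hNN w hw), rfl⟩
    have heq : I1 = Submodule.map R.subtype (LinearMap.ker π) := by
      refine Submodule.eq_of_le_of_finrank_eq hle ?_
      rw [Submodule.finrank_map_subtype_eq, hk]
    rw [heq]
    exact ⟨⟨v, hv⟩, Subtype.ext h0, rfl⟩
  have hiso : ∀ a ∈ I1, ∀ b ∈ I1, B a b = 0 := by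
    rintro _ ⟨u, hu, rfl⟩ b ⟨w, hw, rfl⟩
    have hzb : z (N w) = N w := sub_eq_zero.1 ((hNa (N w)).symm.trans (hNN w hw))
    rw [hNa u, map_sub, LinearMap.sub_apply]
    conv_lhs => arg 1; rw [← hzb]
    rw [hz.form, sub_self]
  let β : LinearMap.BilinForm F₃ I1 := B.compl₁₂ I1.subtype (R.subtype.comp s)
  have hβ : ∀ a, (∀ b, β a b = 0) → a = 0 := by
    intro a ha
    refine Subtype.ext (range_nondeg hC hy hr h5 hyr (hI1R a.2) fun v hv => ?_)
    have h1 : N v ∈ I1 := ⟨v, hv, rfl⟩
    have h2 : v - (s ⟨N v, h1⟩ : V) ∈ I1 := by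
      refine hker _ (R.sub_mem hv (s ⟨N v, h1⟩).2) ?_
      rw [map_sub, hs', sub_self]
    have h3 : B (a : V) (s ⟨N v, h1⟩ : V) = 0 := ha ⟨N v, h1⟩
    calc B (a : V) v = B (a : V) (v - (s ⟨N v, h1⟩ : V)) + B (a : V) (s ⟨N v, h1⟩ : V) := by
          rw [map_sub, sub_add_cancel]
      _ = 0 := by rw [hiso _ a.2 _ h2, h3, add_zero]
  let T : Module.End F₃ I1 := y.restrict hI1y
  have hTr : ∀ (k : ℕ) (u : I1), (((T ^ k) u : I1) : V) = (y ^ k) u := by
    intro k
    induction k with
    | zero => simp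
    | succ k ih =>
      intro u
      rw [pow_succ', pow_succ', Module.End.mul_apply, Module.End.mul_apply, ← ih u]
      rfl
  have hinv : ∀ a b, β (T a) (T b) = β a b := by
    intro a b
    change B (y a) (s (T b) : V) = B (a : V) (s b : V)
    rw [← hy.form (a : V) (s b : V)]
    have h1 : (s (T b) : V) - y (s b : V) ∈ I1 := by
      refine hker _ (R.sub_mem (s (T b)).2 (range_invariant (s b).2)) ?_
      rw [map_sub, hs', ← hNy, hs']
      exact sub_self _
    have h2 := hiso _ (hI1y a a.2) _ h1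
    rwa [map_sub, sub_eq_zero] at h2
  obtain ⟨u, hu0, hu⟩ := exists_fixed β hβ T hinv (hr.odd_of_ne_two (by omega))
    (LinearMap.ext fun u => Subtype.ext (by rw [hTr, hyr]; rfl)) (by rw [hI13]; decide)
  exact hu0 (Subtype.ext (disjoint_fixed hr h5 hyr (hI1R u.2) (congrArg Subtype.val hu)))

end element

/-- The product of the cyclotomic cubics modulo three. -/
theorem phi13_split {R : Type*} [CommRing R] (h3 : (3 : R) = 0) (x : R) :
    (x - 1) * (x ^ 3 + x ^ 2 - 1) * (x ^ 3 + x ^ 2 + x - 1) * (x ^ 3 - x - 1) * (x ^ 3 - x ^ 2 - x - 1) = x ^ 13 - 1 := by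
  linear_combination (x ^ 2 + 2 * x ^ 3 - x ^ 4 - 4 * x ^ 5 - 3 * x ^ 6 + 3 * x ^ 7 + 4 * x ^ 8 + x ^ 9 - 2 * x ^ 10 - x ^ 11) * h3

theorem no_commuting_seven [Finite V] (hC : IsCross B μ) {y z : Module.End F₃ V} (hy : IsAut B μ y)
    (hz : IsAut B μ z) (hyr : y ^ 13 = 1) (hy1 : y ≠ 1) (hzr : z ^ 7 = 1) (hz1 : z ≠ 1) (hzy : Commute z y) :
    False := by
  classical
  have : Module.Finite F₃ V := Module.Finite.of_finite
  have h13 : Nat.Prime 13 := by norm_num
  have h7 : Nat.Prime 7 := by norm_num
  obtain ⟨e, he, hQ, hall⟩ := exists_fixed_spanning hC hy h13 (by norm_num) hyr hy1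
  set R := LinearMap.range (y - 1) with hR
  have hR6 : finrank F₃ R = 6 := range_dim hC hy h13 (by norm_num) hyr hy1
  obtain ⟨e', he', hQ', hall'⟩ := exists_fixed_spanning hC hz h7 (by norm_num) hzr hz1
  have hyz : ∀ v, y (z v) = z (y v) := fun v => by
    rw [← Module.End.mul_apply, ← hzy.eq, Module.End.mul_apply]
  have he0 : e ≠ 0 := by rintro rfl; simp at hQ
  have hze : z e = e := by
    obtain ⟨c, hc⟩ := hall (z e) (by rw [hyz, he])
    have h : ∀ k : ℕ, (z ^ k) e = c ^ k • e := by
      intro k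
      induction k with
      | zero => simp
      | succ k ih => rw [pow_succ', Module.End.mul_apply, ih, map_smul, ← hc, smul_smul, pow_succ]
    have h1 := h 7
    rw [hzr, Module.End.one_apply] at h1
    have hc1 : c ^ 7 = 1 := smul_left_injective F₃ he0 (by simp only; rw [one_smul]; exact h1.symm)
    rw [← hc, zmod3_odd_pow c (by decide) hc1, one_smul]
  -- `z` has no fixed vector in `R`
  have hfpf : ∀ v ∈ R, z v = v → v = 0 := by
    intro v hv hzv
    obtain ⟨a, ha⟩ := hall' v hzv
    obtain ⟨b, hb⟩ := hall' e hze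
    have hb0 : b ≠ 0 := by rintro rfl; rw [zero_smul] at hb; exact he0 hb.symm
    have hve : v = (a / b) • e := by rw [← hb, smul_smul, div_mul_cancel₀ _ hb0, ha]
    refine disjoint_fixed h13 (by norm_num) hyr hv ?_
    rw [hve, map_smul, he]
  have hdvd : ∀ U : Submodule F₃ V, U ≤ R → (∀ u ∈ U, z u ∈ U) → 7 ∣ 3 ^ finrank F₃ U - 1 := by
    intro U hU hzU
    let T : Module.End F₃ U := z.restrict hzU
    have hT : ∀ (k : ℕ) (u : U), (((T ^ k) u : U) : V) = (z ^ k) u := by
      intro k
      induction k with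
      | zero => simp
      | succ k ih =>
        intro u
        rw [pow_succ', pow_succ', Module.End.mul_apply, Module.End.mul_apply, ← ih u]
        rfl
    refine fpf_dvd h7 T (LinearMap.ext fun u => Subtype.ext (by rw [hT, hzr]; rfl)) fun u hu => ?_
    exact Subtype.ext (hfpf u (hU u.2) (congrArg Subtype.val hu))
  -- each cubic is injective on `R` or zero on it
  have hdich : ∀ f : Polynomial F₃, (∀ v ∈ R, Polynomial.aeval y f v = 0) ∨
      (∀ v ∈ R, Polynomial.aeval y f v = 0 → v = 0) := by
    intro f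
    let U : Submodule F₃ V := R ⊓ LinearMap.ker (Polynomial.aeval y f)
    have hc : ∀ g : Module.End F₃ V, Commute g y → ∀ v, Polynomial.aeval y f (g v) = g (Polynomial.aeval y f v) := by
      intro g hg v
      rw [← Module.End.mul_apply, ← Module.End.mul_apply]
      congr 1
      induction f using Polynomial.induction_on' with
      | add a b ha hb => rw [map_add, add_mul, mul_add, ha, hb]
      | monomial k c =>
        rw [Polynomial.aeval_monomial, ← Algebra.smul_def, smul_mul_assoc, mul_smul_comm, (hg.pow_right k).eq]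
    have hUy : ∀ u ∈ U, y u ∈ U := fun u hu => ⟨range_invariant hu.1, by
      have : Polynomial.aeval y f u = 0 := hu.2
      rw [SetLike.mem_coe, LinearMap.mem_ker, hc y (Commute.refl y), this, map_zero]⟩
    have hUz : ∀ u ∈ U, z u ∈ U := fun u hu => ⟨range_invariant_of_commute hzy hu.1, by
      have : Polynomial.aeval y f u = 0 := hu.2
      rw [SetLike.mem_coe, LinearMap.mem_ker, hc z hzy, this, map_zero]⟩
    have hd1 := subspace_dvd h13 (by norm_num) hyr U inf_le_left hUy
    have hd2 := hdvd U inf_le_left hUz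
    have hle : finrank F₃ U ≤ finrank F₃ R := Submodule.finrank_mono inf_le_left
    rw [hR6] at hle
    have h06 : finrank F₃ U = 0 ∨ finrank F₃ U = 6 := by
      generalize finrank F₃ U = d at *
      interval_cases d <;> first | omega | (norm_num at hd1) | (norm_num at hd2)
    rcases h06 with h | h
    · refine Or.inr fun v hv h0 => ?_
      have : v ∈ U := ⟨hv, h0⟩
      rwa [Submodule.finrank_eq_zero.1 h, Submodule.mem_bot] at this
    · refine Or.inl fun v hv => ?_
      have hUR : U = R := Submodule.eq_of_le_of_finrank_eq inf_le_left (h.trans hR6.symm)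
      rw [← hUR] at hv
      exact hv.2
  obtain ⟨u, hu, hu0⟩ := Submodule.exists_mem_ne_zero_of_ne_bot (p := R)
    (fun h0 => by rw [h0, finrank_bot] at hR6; omega)
  -- some cubic kills `R`
  let f : Fin 4 → Polynomial F₃ := ![Polynomial.X ^ 3 + Polynomial.X ^ 2 - 1,
    Polynomial.X ^ 3 + Polynomial.X ^ 2 + Polynomial.X - 1, Polynomial.X ^ 3 - Polynomial.X - 1,
    Polynomial.X ^ 3 - Polynomial.X ^ 2 - Polynomial.X - 1]
  have hRinv : ∀ v ∈ R, y v ∈ R := fun v hv => range_invariant hv
  have hprod : Polynomial.aeval y (f 0 * f 1 * f 2 * f 3) u = 0 := by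
    have h3 : (3 : Polynomial F₃) = 0 := by
      rw [← map_ofNat (Polynomial.C : F₃ →+* Polynomial F₃) 3, show (3 : F₃) = 0 by decide, map_zero]
    have h := congrArg (Polynomial.aeval y) (phi13_split h3 (Polynomial.X : Polynomial F₃))
    rw [map_sub, map_pow, Polynomial.aeval_X, map_one, hyr, sub_self, mul_assoc, mul_assoc, mul_assoc, map_mul] at h
    have h' := LinearMap.congr_fun h u
    rw [Module.End.mul_apply, LinearMap.zero_apply, map_sub, Polynomial.aeval_X, map_one, LinearMap.sub_apply,
      Module.End.one_apply, sub_eq_zero] at h'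
    have h0 := disjoint_fixed h13 (by norm_num) hyr (aeval_invariant R hRinv _ u hu) h'
    simpa only [f, mul_assoc, Matrix.cons_val_zero, Matrix.cons_val_one, Matrix.cons_val] using h0
  obtain ⟨i, hi⟩ : ∃ i, ∀ v ∈ R, Polynomial.aeval y (f i) v = 0 := by
    by_contra hcon
    push Not at hcon
    have hinj : ∀ i, ∀ v ∈ R, Polynomial.aeval y (f i) v = 0 → v = 0 := by
      intro i
      rcases hdich (f i) with h | h
      · obtain ⟨v, hv, hv'⟩ := hcon i
        exact absurd (h v hv) hv'
      · exact h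
    rw [map_mul, map_mul, map_mul, Module.End.mul_apply, Module.End.mul_apply, Module.End.mul_apply] at hprod
    have m3 := aeval_invariant R hRinv (f 3) u hu
    have m2 := aeval_invariant R hRinv (f 2) _ m3
    have m1 := aeval_invariant R hRinv (f 1) _ m2
    exact hu0 (hinj 3 u hu (hinj 2 _ m3 (hinj 1 _ m2 (hinj 0 _ m1 hprod))))
  -- every vector of `R` is singular
  have hsing : ∀ v ∈ R, B v v = 0 := by
    intro v hv
    set U := LinearMap.range (orbitMap y v) with hU
    have hUR : U ≤ R := orbit_le R hRinv hv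
    have hmonic : (f i).Monic ∧ (f i).natDegree = 3 := by
      constructor <;> fin_cases i <;> simp only [f, Matrix.cons_val_zero, Matrix.cons_val_one, Matrix.cons_val,
        Fin.isValue, Fin.zero_eta, Fin.mk_one, Fin.reduceFinMk] <;>
        first | monicity! | compute_degree!
    have hspan : U ≤ Submodule.span F₃ (Set.range fun k : Fin 3 => (y ^ (k : ℕ)) v) := by
      rintro _ ⟨g, rfl⟩
      rw [orbitMap_apply]
      have hg : Polynomial.aeval y g v = Polynomial.aeval y (g %ₘ f i) v := by
        conv_lhs => rw [← Polynomial.modByMonic_add_div g (f i)]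
        rw [map_add, LinearMap.add_apply, mul_comm, map_mul, Module.End.mul_apply, hi v hv, map_zero, add_zero]
      rw [hg]
      have hne : f i ≠ 1 := fun h => by simp [h] at hmonic
      have hdeg : (g %ₘ f i).natDegree < 3 := (Polynomial.natDegree_modByMonic_lt g hmonic.1 hne).trans_eq hmonic.2
      rw [Polynomial.aeval_eq_sum_range' hdeg, LinearMap.sum_apply]
      refine Submodule.sum_mem _ fun k hk => ?_
      rw [LinearMap.smul_apply]
      exact Submodule.smul_mem _ _ (Submodule.subset_span ⟨⟨k, Finset.mem_range.1 hk⟩, rfl⟩)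
    have hd3 : finrank F₃ U ≤ 3 := by
      refine (Submodule.finrank_mono hspan).trans ?_
      exact (finrank_range_le_card _).trans (by simp)
    let rad : Submodule F₃ V :=
      { carrier := {a | a ∈ U ∧ ∀ b ∈ U, B a b = 0}
        add_mem' := fun ha hb => ⟨U.add_mem ha.1 hb.1, fun b' hb' => by
          rw [map_add, LinearMap.add_apply, ha.2 b' hb', hb.2 b' hb', add_zero]⟩
        zero_mem' := ⟨U.zero_mem, fun b _ => by rw [map_zero, LinearMap.zero_apply]⟩
        smul_mem' := fun c a ha => ⟨U.smul_mem c ha.1, fun b hb => by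
          rw [map_smul, LinearMap.smul_apply, ha.2 b hb, smul_zero]⟩ }
    have hyback : ∀ b ∈ U, ∃ b' ∈ U, y b' = b := by
      intro b hb
      refine ⟨(y ^ 12) b, ?_, by rw [← Module.End.mul_apply, ← pow_succ', hyr, Module.End.one_apply]⟩
      have := aeval_invariant U (orbit_invariant v) (Polynomial.X ^ 12) b hb
      rwa [map_pow, Polynomial.aeval_X] at this
    have hrady : ∀ a ∈ rad, y a ∈ rad := fun a ha => ⟨orbit_invariant v a ha.1, fun b hb => by
      obtain ⟨b', hb', rfl⟩ := hyback b hb
      rw [hy.form]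
      exact ha.2 b' hb'⟩
    have hradU : rad ≤ U := fun a ha => ha.1
    have hd := subspace_dvd h13 (by norm_num) hyr U hUR (orbit_invariant v)
    have hd' := subspace_dvd h13 (by norm_num) hyr rad (hradU.trans hUR) hrady
    have hle := Submodule.finrank_mono hradU
    by_cases hU0 : finrank F₃ U = 0
    · have := self_mem_orbit (y := y) v
      rw [← hU, Submodule.finrank_eq_zero.1 hU0, Submodule.mem_bot] at this
      rw [this]; simp
    have hU3 : finrank F₃ U = 3 := by
      generalize finrank F₃ U = d at *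
      interval_cases d <;> first | omega | (norm_num at hd)
    have hrad3 : finrank F₃ rad = 3 := by
      rcases Nat.eq_zero_or_pos (finrank F₃ rad) with h | h
      · exfalso
        have he3 := subspace_even hy h13 (by norm_num) hyr U hUR (orbit_invariant v) fun a ha hab => by
          have : a ∈ rad := ⟨ha, hab⟩
          rwa [Submodule.finrank_eq_zero.1 h, Submodule.mem_bot] at this
        rw [hU3] at he3
        exact absurd he3 (by decide)
      · rw [hU3] at hle
        generalize finrank F₃ rad = d at *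
        interval_cases d <;> first | omega | (norm_num at hd')
    have hradeq : rad = U := Submodule.eq_of_le_of_finrank_eq hradU (hrad3.trans hU3.symm)
    have hv' : v ∈ rad := hradeq ▸ self_mem_orbit v
    exact hv'.2 v (self_mem_orbit v)
  refine hu0 (range_nondeg hC hy h13 (by norm_num) hyr hu fun v hv => ?_)
  have h1 := hsing (u + v) (R.add_mem hu hv)
  simp only [map_add, LinearMap.add_apply, hsing u hu, hsing v hv, hC.symm v u, zero_add,
    add_zero] at h1
  exact zmod3_self_add _ h1

end Cfsg.Agent.Lib.GTwoThree
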