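import Cfsg.Agent.Lib.LieTwisted.IsogenyG2
import Cfsg.Agent.Lib.GTwoThree.Cross

/-!
The invariant cross product on the short root ideal of `G2(3)`: kernel checks on the generators.
-/

set_option autoImplicit false

namespace Cfsg.Agent.Lib.GTwoThree

open Matrix Cfsg.Lie
open Cfsg.Agent.Lib.LieTwisted.Isogeny

/-- The group. -/
abbrev G3 := ↥(chevG2.group (ZMod 3))

/-- The square matrices on the ideal. -/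
abbrev M7 := Matrix (Fin 7) (Fin 7) (ZMod 3)

instance : CharP (ZMod 3) dataG2.p := (inferInstance : CharP (ZMod 3) 3)

/-- The invariant form. -/
def Bm : M7 := !![1, 0, 0, 0, 0, 0, 0; 0, 0, 2, 0, 0, 0, 0; 0, 2, 0, 0, 0, 0, 0; 0, 0, 0, 0, 2, 0, 0; 0, 0, 0, 2, 0, 0, 0; 0, 0, 0, 0, 0, 0, 2; 0, 0, 0, 0, 0, 2, 0]

/-- The products with the basis vectors. -/
def AD : Fin 7 → M7 :=
  ![!![0, 0, 0, 0, 0, 0, 0; 0, 2, 0, 0, 0, 0, 0; 0, 0, 1, 0, 0, 0, 0; 0, 0, 0, 2, 0, 0, 0; 0, 0, 0, 0, 1, 0, 0; 0, 0, 0, 0, 0, 1, 0; 0, 0, 0, 0, 0, 0, 2],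
    !![0, 0, 1, 0, 0, 0, 0; 1, 0, 0, 0, 0, 0, 0; 0, 0, 0, 0, 0, 0, 0; 0, 0, 0, 0, 0, 0, 0; 0, 0, 0, 0, 0, 0, 2; 0, 0, 0, 1, 0, 0, 0; 0, 0, 0, 0, 0, 0, 0],
    !![0, 2, 0, 0, 0, 0, 0; 0, 0, 0, 0, 0, 0, 0; 2, 0, 0, 0, 0, 0, 0; 0, 0, 0, 0, 0, 1, 0; 0, 0, 0, 0, 0, 0, 0; 0, 0, 0, 0, 0, 0, 0; 0, 0, 0, 0, 2, 0, 0],
    !![0, 0, 0, 0, 1, 0, 0; 0, 0, 0, 0, 0, 0, 0; 0, 0, 0, 0, 0, 0, 1; 1, 0, 0, 0, 0, 0, 0; 0, 0, 0, 0, 0, 0, 0; 0, 2, 0, 0, 0, 0, 0; 0, 0, 0, 0, 0, 0, 0],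
    !![0, 0, 0, 2, 0, 0, 0; 0, 0, 0, 0, 0, 2, 0; 0, 0, 0, 0, 0, 0, 0; 0, 0, 0, 0, 0, 0, 0; 2, 0, 0, 0, 0, 0, 0; 0, 0, 0, 0, 0, 0, 0; 0, 0, 1, 0, 0, 0, 0],
    !![0, 0, 0, 0, 0, 0, 2; 0, 0, 0, 0, 1, 0, 0; 0, 0, 0, 0, 0, 0, 0; 0, 0, 2, 0, 0, 0, 0; 0, 0, 0, 0, 0, 0, 0; 2, 0, 0, 0, 0, 0, 0; 0, 0, 0, 0, 0, 0, 0],
    !![0, 0, 0, 0, 0, 1, 0; 0, 0, 0, 0, 0, 0, 0; 0, 0, 0, 2, 0, 0, 0; 0, 0, 0, 0, 0, 0, 0; 0, 1, 0, 0, 0, 0, 0; 0, 0, 0, 0, 0, 0, 0; 1, 0, 0, 0, 0, 0, 0]]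

/-- The embedding of the ideal coordinates. -/
def idx (a : Fin 7) : chevG2.Idx :=
  (Cfsg.Agent.Lib.LieTwisted.SparseRoot.idxFin chevG2).symm (emb dataG2.I dataG2_good.ltI a)

/-- A root element on the ideal. -/
def genMat (r : Fin chevG2.nroots) (t : ZMod 3) : M7 := (chevG2.xMat (ZMod 3) r t).submatrix idx idx

/-- Invariance of the form and the product. -/
def Inv (M : M7) : Prop := M.transpose * Bm * M = Bm ∧ ∀ a, M * AD a = (∑ w, M w a • AD w) * M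

set_option maxRecDepth 100000 in
theorem genMat_form : ∀ (r : Fin chevG2.nroots) (t : ZMod 3), (genMat r t).transpose * Bm * genMat r t = Bm := by
  decide +kernel

set_option maxRecDepth 100000 in
theorem genMat_prod : ∀ (r : Fin chevG2.nroots) (t : ZMod 3) (a : Fin 7),
    genMat r t * AD a = (∑ w, genMat r t w a • AD w) * genMat r t := by
  decide +kernel

theorem AD_ident : ∀ (a b : Fin 7), AD a * AD b + AD b * AD a =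
    Matrix.of fun i j => Bm a b * (if i = j then 1 else 0) + Bm a b * (if i = j then 1 else 0) -
      (if i = a then Bm b j else 0) - (if i = b then Bm a j else 0) := by
  decide +kernel

end Cfsg.Agent.Lib.GTwoThree
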